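import Cfsg.Agent.H800.MT.Model

/-!
# The Monster at `p = 13`

`abIrr_model` : `AbIrr 13` for the model of the Monster if S5325 holds for the smaller groups.
-/

set_option autoImplicit false
set_option maxRecDepth 100000

open Subgroup

namespace Cfsg.Agent.H800.MT.Final

open Cfsg Cfsg.Agent.MonsterX Cfsg.Agent.MonsterX.InstData Cfsg.Agent.MonsterX.MainPack Cfsg.Agent.MonsterU
open Cfsg.Agent.MonsterP Cfsg.Agent.MonsterN Cfsg.Agent.LThreeMB
open Cfsg.Agent.MonsterX.MainBasic Cfsg.Agent.MonsterX.MainSimple Cfsg.Agent.MonsterX.Model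
open Cfsg.Agent.MonsterU.Lam2 Cfsg.Agent.MonsterU.TwoCls
open Cfsg.Agent.H794.MonThirteen Cfsg.Agent.H794.MonLift
open Cfsg.Agent.BpSpor.MBigModel (MG zz)

/-- helper794's data with `x` in `C(z)` -/
theorem hyp_model : ∃ (x : centralizer ({zz} : Set MG)) (Q : Subgroup MG), orderOf x = 13 ∧
    H794.MonCube.Hyp 13 (x : MG) zz Q := by
  have hfin := MFive.Row.finite_model
  have hc := MFive.Row.hc
  have h := KChart.chart KDone.lft hc
  have h13 : Nat.Prime 13 := by norm_num
  obtain ⟨x, hx, hxs⟩ := MFive.KPair.exists_order h h13 (by decide) orderOf_s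
  have hx13 : x ^ 13 = 1 := by rw [← hx, pow_orderOf_eq_one]
  have hfr : fr (KChart.pi hc x) = 1 := BpMon.Thirteen.fr_pi KDone.lft hc hx
  have hzx : KDone.K.z * (x : ↥InstData.M.G) = x * KDone.K.z := (mem_centralizer_singleton_iff.1 x.2).symm
  have only : ∀ t : ↥InstData.M.G, t * x = x * t → t * KDone.K.z = KDone.K.z * t → t * t = 1 → t = 1 ∨ t = KDone.K.z := by
    intro t htx htz htt
    by_cases ht : t = 1
    · exact Or.inl ht
    · right
      exact BpMon.Thirteen.only_inv KDone.lft hc (x := x) (t := ⟨t, mem_centralizer_singleton_iff.2 htz⟩) hx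
        (Subtype.ext htt) (fun h1 => ht (congrArg Subtype.val h1)) (Subtype.ext htx.symm)
  obtain ⟨k, hk, hkm⟩ := exists_mem h h13 (by decide) hx13 (V := V) b_mem (by rw [hxs]; exact bs)
  obtain ⟨l, hl, hlm⟩ := exists_mem h h13 (by decide) hx13 (V := V) c_mem (by rw [hxs]; exact cs)
  refine ⟨x, H794.MonLift.lft (KChart.pi hc) x V, hx, ?_⟩
  refine ⟨?_, by rw [orderOf_coe, hx], by norm_num, hzx, only, isPGroup_lft h (by decide) hx13 hfr fun v hv => V_sq hv,
    fun q hq => lft_x hq, fun q hq => lft_z hq, z_mem h, ⟨k, hkm, l, hlm, not_comm h hx13 hfr only hk hl (lft_x hkm)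
      (lft_x hlm)⟩, ?_, ?_, ?_⟩
  · have : Fact (Nat.Prime 2) := ⟨Nat.prime_two⟩
    exact orderOf_eq_prime (by rw [pow_two]; exact h.large.z_sq) h.large.z_ne
  · intro h7
    have h1 := h7.trans (BpRankZero.Seven.card_cz h)
    rw [Cfsg.Agent.MonsterU.CoFrameF.card_Co1] at h1
    norm_num at h1
  · rw [Cfsg.Agent.MonsterP.EquivOf.isM_model.2]
    norm_num
  · rw [Cfsg.Agent.MonsterP.EquivOf.isM_model.2]
    norm_num

/-- **The model of the Monster at `p = 13`.** -/
theorem abIrr_model (hS : StrLt.{0} 13 (Nat.card MG)) : H795.AbIrr 13 MG := by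
  have hfin := BpSpor.MBigModel.finite
  have : Fact (Nat.Prime 13) := ⟨by norm_num⟩
  obtain ⟨x, Q, hx, h⟩ := hyp_model
  obtain ⟨x₁, w, h1, h2, h3, h4, h5, h6, h7⟩ := MT.Model.exists_four LitFin.all KDone.lnk KDone.lft
      (TauInst.tauHyp (Final.cent InstanceFinal.mOrbit Instance.mTrans)) (NodesGrp.prel LitFin.H)
      (NodesNe.ne LitFin.H) LitFin.conj_ten
  have hTA : LThreeB.Row.TA _ := LThreeB.Par.ta_iota LitFin.all KDone.lnk KDone.lft
  refine abIrr_of_hyp h ?_ h1 h5 h2 h3 h4 h6 h7 ?_ hS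
  · intro t ht
    exact BpSpor.MBigModel.not_sq (Or.inr rfl) ht
  · intro g hg
    obtain ⟨k, hk⟩ := (mem_powers_iff_mem_zpowers).2 hg
    exact H573.Spor.Monster.not_conj_thirteen hx h1 hTA h5 h6 g k hk.symm

end Cfsg.Agent.H800.MT.Final
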