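import Cfsg.Agent.H800.MT.Split
import Cfsg.Agent.H800.StrClosed
import Cfsg.Agent.H794.MonCube
import Cfsg.Agent.S0056

/-!
# `AbIrr p G` for a group with Sylow `p`-subgroups of order `p³`

`abIrr_of_hyp` : `x` and the involution `z` as in helper794's `MonCube.Hyp`, an element `x₁` of order `p` commuting
with a four-group and not conjugate to a power of `x`, the assertion on strongly closed subgroups of elementary abelian
Sylow subgroups for the groups of smaller order.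
-/

set_option autoImplicit false

universe u

namespace Cfsg.Agent.H800.MT

open Subgroup Cfsg Cfsg.Agent.H795 Cfsg.Agent.H794.MonCore Cfsg.Agent.H794.MonSec Cfsg.Agent.H794.MonCube

/-- strongly closed subgroups of elementary abelian Sylow `p`-subgroups in the groups of order less than `n` -/
def StrLt (p n : ℕ) : Prop :=
  ∀ (H : Type u) [Group H] [Finite H], Nat.card H < n → ∀ (A : Sylow p H), IsElementaryAbelian p (A : Subgroup H) →
    ∀ B : Subgroup H, IsStronglyClosed B (A : Subgroup H) → ∃ N : Subgroup H, N.Normal ∧ N ⊓ (A : Subgroup H) = B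

variable {G : Type u} [Group G] [Finite G] {p : ℕ} [hp : Fact p.Prime]

/-- it suffices to consider one Sylow subgroup -/
theorem abIrr_of_one (S₀ : Sylow p G) (h : IsMulCommutative (S₀ : Subgroup G) →
    ∀ B : Subgroup G, B ≤ (S₀ : Subgroup G) → (∀ b ∈ B, b ^ p = 1) →
      (∀ n ∈ normalizer ((S₀ : Subgroup G) : Set G), ∀ b ∈ B, n * b * n⁻¹ ∈ B) →
      B = ⊥ ∨ ∀ x ∈ (S₀ : Subgroup G), x ^ p = 1 → x ∈ B) : AbIrr p G := by
  intro S hS B hBS hBp hinv
  obtain ⟨g, hg⟩ := MulAction.exists_smul_eq G S S₀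
  have hmem : ∀ y : G, y ∈ (S : Subgroup G) ↔ g * y * g⁻¹ ∈ (S₀ : Subgroup G) := by
    intro y
    rw [← hg, Sylow.coe_subgroup_smul, Subgroup.mem_pointwise_smul_iff_inv_smul_mem, ← map_inv, MulAut.smul_def,
      MulAut.conj_apply]
    rw [show g⁻¹ * (g * y * g⁻¹) * g⁻¹⁻¹ = y by group]
  have hmem' : ∀ y : G, y ∈ (S₀ : Subgroup G) ↔ g⁻¹ * y * g ∈ (S : Subgroup G) := by
    intro y
    rw [hmem, show g * (g⁻¹ * y * g) * g⁻¹ = y by group]
  have hmB : ∀ y : G, y ∈ B.map (MulAut.conj g).toMonoidHom ↔ g⁻¹ * y * g ∈ B := fun y => mem_map_conj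
  have hS₀ : IsMulCommutative (S₀ : Subgroup G) := by
    refine isMulCommutative_of fun a ha b hb => ?_
    have h1 := comm_of hS ((hmem' a).1 ha) ((hmem' b).1 hb)
    calc a * b = g * ((g⁻¹ * a * g) * (g⁻¹ * b * g)) * g⁻¹ := by group
      _ = g * ((g⁻¹ * b * g) * (g⁻¹ * a * g)) * g⁻¹ := by rw [h1]
      _ = b * a := by group
  rcases h hS₀ (B.map (MulAut.conj g).toMonoidHom) (fun y hy => (hmem' y).2 (hBS ((hmB y).1 hy)))
    (fun y hy => by
      have h1 := hBp _ ((hmB y).1 hy)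
      have h2 : y ^ p = g * (g⁻¹ * y * g) ^ p * g⁻¹ := by
        rw [← conj_pow, show g * (g⁻¹ * y * g) * g⁻¹ = y by group]
      rw [h2, h1, mul_one, mul_inv_cancel])
    (fun n hn y hy => by
      rw [hmB] at hy ⊢
      have h1 : g⁻¹ * n * g ∈ normalizer ((S : Subgroup G) : Set G) := by
        rw [mem_normalizer_iff] at hn ⊢
        intro y
        have h2 := hn (g * y * g⁻¹)
        rw [← hmem, hmem' (n * (g * y * g⁻¹) * n⁻¹)] at h2
        rwa [show g⁻¹ * (n * (g * y * g⁻¹) * n⁻¹) * g = g⁻¹ * n * g * y * (g⁻¹ * n * g)⁻¹ by group] at h2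
      have h2 := hinv _ h1 _ hy
      rwa [show g⁻¹ * n * g * (g⁻¹ * y * g) * (g⁻¹ * n * g)⁻¹ = g⁻¹ * (n * y * n⁻¹) * g by group] at h2) with h1 | h1
  · left
    rw [eq_bot_iff]
    intro b hb
    have h2 : g * b * g⁻¹ ∈ B.map (MulAut.conj g).toMonoidHom := by
      rw [hmB, show g⁻¹ * (g * b * g⁻¹) * g = b by group]
      exact hb
    rw [h1, mem_bot, mul_inv_eq_one] at h2
    rw [mem_bot]
    exact mul_left_cancel (h2.trans (mul_one g).symm)
  · right
    intro y hy hyp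
    have h2 := h1 (g * y * g⁻¹) ((hmem y).1 hy) (by rw [conj_pow, hyp, mul_one, mul_inv_cancel])
    rwa [hmB, show g⁻¹ * (g * y * g⁻¹) * g = y by group] at h2

/-- an invariant subgroup of an abelian Sylow subgroup is strongly closed -/
theorem conj_mem_of_inv (S : Sylow p G) (hS : IsMulCommutative (S : Subgroup G)) {B : Subgroup G}
    (hBS : B ≤ (S : Subgroup G)) (hinv : ∀ n ∈ normalizer ((S : Subgroup G) : Set G), ∀ b ∈ B, n * b * n⁻¹ ∈ B)
    {b g : G} (hb : b ∈ B) (hg : g * b * g⁻¹ ∈ (S : Subgroup G)) : g * b * g⁻¹ ∈ B := by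
  obtain ⟨n, hn, hn2⟩ := Sylow.conj_eq_normalizer_conj_of_mem S b g⁻¹ (hBS hb) (by rw [inv_inv]; exact hg)
  rw [inv_inv] at hn2
  rw [hn2]
  have := hinv n⁻¹ (inv_mem hn) b hb
  rwa [inv_inv] at this

omit [Finite G] in
/-- the elements of the product of two commuting subgroups -/
theorem mem_sup_of_comm {A B : Subgroup G} (h : ∀ a ∈ A, ∀ b ∈ B, a * b = b * a) {s : G} (hs : s ∈ A ⊔ B) :
    ∃ a ∈ A, ∃ b ∈ B, a * b = s := by
  let K : Subgroup G :=
    { carrier := {s | ∃ a ∈ A, ∃ b ∈ B, a * b = s}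
      one_mem' := ⟨1, one_mem _, 1, one_mem _, one_mul 1⟩
      mul_mem' := by
        rintro _ _ ⟨a, ha, b, hb, rfl⟩ ⟨c, hc, d, hd, rfl⟩
        refine ⟨a * c, A.mul_mem ha hc, b * d, B.mul_mem hb hd, ?_⟩
        calc a * c * (b * d) = a * (c * b) * d := by group
          _ = a * (b * c) * d := by rw [h c hc b hb]
          _ = a * b * (c * d) := by group
      inv_mem' := by
        rintro _ ⟨a, ha, b, hb, rfl⟩
        refine ⟨a⁻¹, A.inv_mem ha, b⁻¹, B.inv_mem hb, ?_⟩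
        rw [h _ (A.inv_mem ha) _ (B.inv_mem hb), mul_inv_rev] }
  have h1 : A ⊔ B ≤ K := sup_le (fun a ha => ⟨a, ha, 1, one_mem _, mul_one a⟩)
    fun b hb => ⟨1, one_mem _, b, hb, one_mul b⟩
  exact h1 hs

/-- the core of the argument -/
theorem core {x z : G} {Q : Subgroup G} (h : Hyp p x z Q)
    (hinv : ∀ t : G, orderOf t = 2 → ¬ p ^ 2 ∣ Nat.card (centralizer ({t} : Set G)))
    {y v w : G} (hy : orderOf y = p) (hv : orderOf v = 2) (hw : orderOf w = 2) (hvw : v * w = w * v) (hne : v ≠ w)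
    (hyv : y * v = v * y) (hyw : y * w = w * y) (hnc : ∀ g : G, g * y * g⁻¹ ∉ zpowers x)
    (hS : StrLt.{u} p (Nat.card G)) (P : Sylow p G) (hxP : x ∈ (P : Subgroup G))
    (hPc : IsMulCommutative (P : Subgroup G)) (hPp : ∀ s ∈ (P : Subgroup G), s ^ p = 1)
    (hPk : Nat.card (P : Subgroup G) = p ^ 3) (hQP : ∀ q ∈ Q, ∀ r ∈ (P : Subgroup G), q * r * q⁻¹ ∈ (P : Subgroup G))
    {L M : Subgroup G} (hLP : L ≤ (P : Subgroup G)) (hMP : M ≤ (P : Subgroup G)) (hL : Nat.card L = p)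
    (hM : Nat.card M = p ^ 2) (hLM : L ⊓ M = ⊥)
    (hLi : ∀ n ∈ normalizer ((P : Subgroup G) : Set G), ∀ b ∈ L, n * b * n⁻¹ ∈ L)
    (hMi : ∀ n ∈ normalizer ((P : Subgroup G) : Set G), ∀ b ∈ M, n * b * n⁻¹ ∈ M) : False := by
  -- `L = ⟨x⟩`
  have hQN : ∀ q ∈ Q, q ∈ normalizer ((P : Subgroup G) : Set G) := fun q hq =>
    Transfer.FusionBasic.mem_normalizer_of_conj_mem (hQP q hq)
  have : IsCyclic L := isCyclic_of_prime_card hL
  obtain ⟨b, hb⟩ := exists_prime_orderOf_dvd_card' p (hL ▸ dvd_rfl : p ∣ Nat.card L)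
  have hbo : orderOf (b : G) = p := by rw [Subgroup.orderOf_coe, hb]
  have hLb : L = zpowers (b : G) := by
    refine (Subgroup.eq_of_le_of_card_ge (zpowers_le.2 b.2) ?_).symm
    rw [hL, Nat.card_zpowers, hbo]
  have hLx : L = zpowers x := by
    by_contra hcon
    obtain ⟨k, hk, l, hl, hkl⟩ := h.nc
    have hwQ : k * l * k⁻¹ * l⁻¹ ∈ Q := mul_mem (mul_mem (mul_mem hk hl) (inv_mem hk)) (inv_mem hl)
    have hw1 : k * l * k⁻¹ * l⁻¹ ≠ 1 := by
      intro h1
      apply hkl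
      rw [mul_inv_eq_one, mul_inv_eq_iff_eq_mul] at h1
      exact h1
    obtain ⟨m, hm⟩ := h.q2 ⟨_, hwQ⟩
    obtain ⟨j, hj⟩ := exists_pow_eq h.only (h.qx _ hwQ) (h.qz _ hwQ) hw1 (congrArg Subtype.val hm)
    have h1 := comm_cyclic (β := (b : G)) (k := k) (l := l) (by rw [← hLb]; exact hLi k (hQN k hk) _ b.2)
      (by rw [← hLb]; exact hLi l (hQN l hl) _ b.2)
    have h2 : Commute (k * l * k⁻¹ * l⁻¹) (b : G) := mul_inv_eq_iff_eq_mul.1 h1
    have h3 := h2.pow_left j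
    rw [hj] at h3
    refine h.cz (sq_dvd_of_pair (a := x) (b := (b : G)) (mem_centralizer_singleton_iff.2 h.zx.symm)
      (mem_centralizer_singleton_iff.2 h3.eq.symm) h.hx (by rw [← hbo, pow_orderOf_eq_one])
      (comm_of hPc hxP (hLP b.2)) fun hbx => hcon ?_)
    refine Subgroup.eq_of_le_of_card_ge ?_ ?_
    · rw [hLb, zpowers_le]; exact hbx
    · rw [hL, Nat.card_zpowers, h.hx]
  -- `y` in `P`
  obtain ⟨T, hT⟩ := (IsPGroup.of_card (p := p) (n := 1) (G := zpowers y)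
    (by rw [Nat.card_zpowers, hy, pow_one])).exists_le_sylow
  obtain ⟨g, hg⟩ := MulAction.exists_smul_eq G T P
  have hy' : g * y * g⁻¹ ∈ (P : Subgroup G) := by
    rw [← hg]
    exact Subgroup.smul_mem_pointwise_smul _ (MulAut.conj g) (T : Subgroup G) (hT (mem_zpowers _))
  have hco : ∀ t : G, orderOf (g * t * g⁻¹) = orderOf t := fun t => by
    rw [← MulAut.conj_apply]
    exact MulEquiv.orderOf_eq _ _
  set y' := g * y * g⁻¹ with hy'def
  have hcomm : ∀ t : G, y * t = t * y → (g * t * g⁻¹) * y' = y' * (g * t * g⁻¹) := by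
    intro t ht
    calc g * t * g⁻¹ * (g * y * g⁻¹) = g * (t * y) * g⁻¹ := by group
      _ = g * (y * t) * g⁻¹ := by rw [ht]
      _ = g * y * g⁻¹ * (g * t * g⁻¹) := by group
  -- the centralizer of `y'`
  set H := centralizer ({y'} : Set G) with hH
  have hPH : (P : Subgroup G) ≤ H := fun s hs => mem_centralizer_singleton_iff.2 (comm_of hPc hs hy')
  have hlt : Nat.card H < Nat.card G := by
    refine lt_of_le_of_ne (Subgroup.card_le_card_group H) fun he => ?_
    have htop : H = ⊤ := Subgroup.eq_top_of_card_eq H he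
    have hall : ∀ t : G, t * y' = y' * t := fun t =>
      mem_centralizer_singleton_iff.1 (by rw [← hH, htop]; exact mem_top t)
    have hyy : y' = y := by
      have h1 := hall g⁻¹
      have h2 : y = g⁻¹ * y' * g := by rw [hy'def]; group
      rw [h2, h1]
      group
    refine h.cz (sq_dvd_of_pair (a := x) (b := y') (mem_centralizer_singleton_iff.2 h.zx.symm)
      (mem_centralizer_singleton_iff.2 (hall z).symm) h.hx (by rw [hyy, ← hy, pow_orderOf_eq_one]) (hall x) ?_)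
    exact hnc g
  let PH : Sylow p H := P.subtype hPH
  have hPHc : (PH : Subgroup H) = (P : Subgroup G).subgroupOf H := rfl
  have hEl : IsElementaryAbelian p (PH : Subgroup H) := by
    refine ⟨?_, fun a ha => Subtype.ext ?_⟩
    · exact isMulCommutative_of fun a ha b hb => Subtype.ext (comm_of hPc ha hb)
    · exact hPp _ ha
  have hSC : ∀ B : Subgroup G, B ≤ (P : Subgroup G) →
      (∀ n ∈ normalizer ((P : Subgroup G) : Set G), ∀ b ∈ B, n * b * n⁻¹ ∈ B) →
      IsStronglyClosed (B.subgroupOf H) (PH : Subgroup H) := by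
    intro B hBP hBi
    refine ⟨fun a ha => hBP ha, fun a ha k hk => ?_⟩
    exact conj_mem_of_inv P hPc hBP hBi (b := (a : G)) (g := (k : G)) ha hk
  obtain ⟨M₁, hM₁, hM₁P⟩ := hS H hlt PH hEl _ (hSC L hLP hLi)
  obtain ⟨N₁, hN₁, hN₁P⟩ := hS H hlt PH hEl _ (hSC M hMP hMi)
  have hcard : ∀ B : Subgroup G, B ≤ (P : Subgroup G) → Nat.card (B.subgroupOf H) = Nat.card B := fun B hB =>
    Nat.card_congr (Subgroup.subgroupOfEquivOfLe (hB.trans hPH)).toEquiv
  let yH : H := ⟨y', mem_centralizer_singleton_iff.2 rfl⟩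
  let vH : H := ⟨g * v * g⁻¹, mem_centralizer_singleton_iff.2 (hcomm v hyv)⟩
  let wH : H := ⟨g * w * g⁻¹, mem_centralizer_singleton_iff.2 (hcomm w hyw)⟩
  refine false_of_split (G := H) (p := p) h.hp2 ?_ PH hEl.1 hEl.2 ?_ M₁ N₁ ?_ ?_ ?_ (x := yH) (v := vH) (w := wH)
    ?_ ?_ ?_ ?_ ?_ ?_ ?_
  · intro t ht hd
    refine hinv (t : G) (by rw [Subgroup.orderOf_coe, ht]) (hd.trans ?_)
    rw [← Subgroup.card_map_of_injective H.subtype_injective]
    refine Subgroup.card_dvd_of_le ?_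
    rintro _ ⟨c, hc, rfl⟩
    exact mem_centralizer_singleton_iff.2 (congrArg Subtype.val (mem_centralizer_singleton_iff.1 hc))
  · rw [hPHc, hcard _ le_rfl, hPk]
  · rw [hM₁P, hcard L hLP]
    exact hL
  · rw [hN₁P, hcard M hMP, hM]
  · rw [hM₁P, hN₁P]
    show (L ⊓ M).subgroupOf H = ⊥
    rw [hLM, Subgroup.bot_subgroupOf]
  · rw [Subgroup.orderOf_mk, hco, hy]
  · rintro ⟨k, hk⟩
    exact Subtype.ext (mem_centralizer_singleton_iff.1 hk)
  · intro hyM
    have h1 : yH ∈ M₁ ⊓ (PH : Subgroup H) := ⟨hyM, hy'⟩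
    rw [hM₁P] at h1
    have h2 : y' ∈ L := h1
    rw [hLx] at h2
    exact hnc g h2
  · rw [Subgroup.orderOf_mk, hco, hv]
  · rw [Subgroup.orderOf_mk, hco, hw]
  · refine Subtype.ext ?_
    show g * v * g⁻¹ * (g * w * g⁻¹) = g * w * g⁻¹ * (g * v * g⁻¹)
    calc g * v * g⁻¹ * (g * w * g⁻¹) = g * (v * w) * g⁻¹ := by group
      _ = g * (w * v) * g⁻¹ := by rw [hvw]
      _ = _ := by group
  · intro he
    have h1 : g * v * g⁻¹ = g * w * g⁻¹ := congrArg Subtype.val he
    exact hne (mul_left_cancel (mul_right_cancel h1))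

/-- **The criterion.** -/
theorem abIrr_of_hyp {x z : G} {Q : Subgroup G} (h : Hyp p x z Q)
    (hinv : ∀ t : G, orderOf t = 2 → ¬ p ^ 2 ∣ Nat.card (centralizer ({t} : Set G)))
    {y v w : G} (hy : orderOf y = p) (hv : orderOf v = 2) (hw : orderOf w = 2) (hvw : v * w = w * v) (hne : v ≠ w)
    (hyv : y * v = v * y) (hyw : y * w = w * y) (hnc : ∀ g : G, g * y * g⁻¹ ∉ zpowers x)
    (hS : StrLt.{u} p (Nat.card G)) : AbIrr p G := by
  classical
  obtain ⟨R, hRp, hxR, hRx, hQR, hRc, hno⟩ := h.exists_R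
  obtain ⟨P, hP⟩ := hRp.exists_le_sylow
  have hPR : R = (P : Subgroup G) := by
    refine Subgroup.eq_of_le_of_card_ge hP ?_
    obtain ⟨n, hn⟩ := IsPGroup.iff_card.1 P.2
    rw [hn, hRc]
    refine Nat.pow_le_pow_right hp.out.pos ?_
    by_contra hlt
    exact h.h4 ((pow_dvd_pow p (by omega)).trans (hn ▸ Subgroup.card_subgroup_dvd_card (P : Subgroup G)))
  subst hPR
  have hQN : ∀ q ∈ Q, q ∈ normalizer ((P : Subgroup G) : Set G) := fun q hq =>
    Transfer.FusionBasic.mem_normalizer_of_conj_mem (hQR q hq)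
  refine abIrr_of_one P fun hPc B hBP hBp hBi => ?_
  have hxp : x ^ p = 1 := by rw [← h.hx, pow_orderOf_eq_one]
  -- `P` is elementary abelian
  have hEl : om p (P : Subgroup G) hPc = (P : Subgroup G) := by
    by_contra hcon
    obtain ⟨k, hk, l, hl, hkl⟩ := h.nc
    apply hno k hk l hl hkl
    have hwQ : k * l * k⁻¹ * l⁻¹ ∈ Q := mul_mem (mul_mem (mul_mem hk hl) (inv_mem hk)) (inv_mem hl)
    obtain ⟨m, hm⟩ := h.q2 ⟨_, hwQ⟩
    have hm' : (k * l * k⁻¹ * l⁻¹) ^ 2 ^ m = 1 := congrArg Subtype.val hm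
    have hcop : (2 ^ m).Coprime p := Nat.Coprime.pow_left m ((Nat.coprime_primes Nat.prime_two hp.out).2 (Ne.symm h.hp2))
    have hle : om p (P : Subgroup G) hPc ≤ (P : Subgroup G) := fun a ha => ha.1
    have hxo : zpowers x ≤ om p (P : Subgroup G) hPc := zpowers_le.2 ⟨hxR, hxp⟩
    have hcx' : ∀ q : G, q * x = x * q → ∀ a ∈ zpowers x, q * a * q⁻¹ = a := by
      intro q hq a ha
      obtain ⟨i, rfl⟩ := mem_zpowers_iff.1 ha
      exact mul_inv_eq_iff_eq_mul.2 ((show Commute q x from hq).zpow_right i).eq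
    have hQo : ∀ q ∈ Q, ∀ a ∈ om p (P : Subgroup G) hPc, q * a * q⁻¹ ∈ om p (P : Subgroup G) hPc := fun q hq a ha =>
      ⟨hQR q hq a ha.1, by rw [conj_pow, ha.2, mul_one, mul_inv_cancel]⟩
    -- the commutator centralizes `Ω₁(P)`
    have hom : ∀ a ∈ om p (P : Subgroup G) hPc, (k * l * k⁻¹ * l⁻¹) * a * (k * l * k⁻¹ * l⁻¹)⁻¹ = a := by
      obtain ⟨n, hn3, hn⟩ : ∃ n, n ≤ 3 ∧ Nat.card (om p (P : Subgroup G) hPc) = p ^ n := by
        have h1 : Nat.card (om p (P : Subgroup G) hPc) ∣ p ^ 3 := hRc ▸ Subgroup.card_dvd_of_le hle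
        exact (Nat.dvd_prime_pow hp.out).1 h1
      have hn3' : n ≠ 3 := by
        rintro rfl
        exact hcon (Subgroup.eq_of_le_of_card_ge hle (by rw [hn, hRc]))
      have hn1 : 1 ≤ n := by
        by_contra hlt
        obtain rfl : n = 0 := by omega
        have h1 := Subgroup.card_dvd_of_le hxo
        rw [hn, Nat.card_zpowers, h.hx, pow_zero, Nat.dvd_one] at h1
        exact hp.out.one_lt.ne' h1
      rcases (show n = 1 ∨ n = 2 by omega) with rfl | rfl
      · have h1 : zpowers x = om p (P : Subgroup G) hPc :=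
          Subgroup.eq_of_le_of_card_ge hxo (by rw [hn, Nat.card_zpowers, h.hx, pow_one])
        rw [← h1]
        exact hcx' _ (h.qx _ hwQ)
      · refine cent_of_chain (A := zpowers x) (hRp.to_le hle) hm' hcop (hcx' _ (h.qx _ hwQ)) hxo
          (comm_trivial (p := p) hxo (by rw [hn, Nat.card_zpowers, h.hx, pow_two])
            (fun b hb a ha => by rw [hcx' b (comm_of hPc hb.1 hxR) a ha]; exact ha)
            (fun a ha => by rw [hcx' k (h.qx k hk) a ha]; exact ha) (hQo k hk)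
            (fun a ha => by rw [hcx' l (h.qx l hl) a ha]; exact ha) (hQo l hl))
    have h56 := S0056.result (zpowers (k * l * k⁻¹ * l⁻¹)) (P : Subgroup G) (zpowers_le.2 (hQN _ hwQ)) (by
        rw [Nat.card_zpowers, hRc]
        exact (Nat.Coprime.coprime_dvd_left (orderOf_dvd_of_pow_eq_one hm') hcop).pow_right 3)
      (fun a ha hpr q hq => by
        have h1 : orderOf a = p := by
          obtain ⟨i, hi⟩ := IsPGroup.iff_orderOf.1 hRp ⟨a, ha⟩
          rw [Subgroup.orderOf_mk] at hi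
          rw [hi] at hpr
          rcases (Nat.Prime.eq_one_or_self_of_dvd hpr p (dvd_pow_self p (by
            rintro rfl
            rw [pow_zero] at hpr
            exact Nat.not_prime_one hpr))) with h3 | h3
          · exact absurd h3 hp.out.one_lt.ne'
          · rw [hi, ← h3]
        have h2 : a ∈ om p (P : Subgroup G) hPc := ⟨ha, by rw [← h1, pow_orderOf_eq_one]⟩
        obtain ⟨i, rfl⟩ := mem_zpowers_iff.1 hq
        exact ((show Commute (k * l * k⁻¹ * l⁻¹) a from mul_inv_eq_iff_eq_mul.1 (hom a h2)).zpow_left i).eq)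
    intro r hr
    have h1 := mem_centralizer_iff.1 (h56 (mem_zpowers _)) r hr
    rw [← h1, mul_inv_cancel_right]
  have hPp : ∀ s ∈ (P : Subgroup G), s ^ p = 1 := fun s hs => by
    rw [← hEl] at hs
    exact hs.2
  by_contra hcon
  push Not at hcon
  obtain ⟨hB0, s0, hs0, -, hs0B⟩ := hcon
  obtain ⟨B2, hB2E, hB2i, hdisj, hsup⟩ := exists_invariant_compl P hPc B (by rw [hEl]; exact hBP) hBi
  rw [hEl] at hB2E hsup
  have hB20 : B2 ≠ ⊥ := by
    intro h0
    rw [h0, sup_bot_eq] at hsup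
    exact hs0B (by rw [hsup]; exact hs0)
  -- the orders
  have hcm : Nat.card B * Nat.card B2 = p ^ 3 := by
    have h1 : ∀ a ∈ B, ∀ b ∈ B2, a * b = b * a := fun a ha b hb => comm_of hPc (hBP ha) (hB2E hb)
    let f : B × B2 → (P : Subgroup G) := fun a => ⟨(a.1 : G) * a.2, mul_mem (hBP a.1.2) (hB2E a.2.2)⟩
    have hf : Function.Bijective f := by
      constructor
      · rintro ⟨⟨a, ha⟩, ⟨b, hb⟩⟩ ⟨⟨c, hc⟩, ⟨d, hd⟩⟩ h2
        have h3 : a * b = c * d := congrArg Subtype.val h2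
        have h4 : c⁻¹ * a = d * b⁻¹ := by
          rw [inv_mul_eq_iff_eq_mul, ← mul_assoc, ← h3, mul_inv_cancel_right]
        have h5 : c⁻¹ * a ∈ B ⊓ B2 := ⟨B.mul_mem (B.inv_mem hc) ha, by rw [h4]; exact B2.mul_mem hd (B2.inv_mem hb)⟩
        rw [hdisj, mem_bot, inv_mul_eq_one] at h5
        subst h5
        have h6 := mul_left_cancel h3
        subst h6
        rfl
      · rintro ⟨s, hs⟩
        obtain ⟨a, ha, b, hb, rfl⟩ := mem_sup_of_comm h1 (by rw [hsup]; exact hs : s ∈ B ⊔ B2)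
        exact ⟨⟨⟨a, ha⟩, ⟨b, hb⟩⟩, rfl⟩
    rw [← Nat.card_prod, Nat.card_congr (Equiv.ofBijective f hf), hRc]
  obtain ⟨i, hi3, hi⟩ : ∃ n, n ≤ 3 ∧ Nat.card B = p ^ n := (Nat.dvd_prime_pow hp.out).1 (Dvd.intro _ hcm)
  have hi0 : i ≠ 0 := by
    rintro rfl
    rw [pow_zero, Subgroup.card_eq_one] at hi
    exact hB0 hi
  have hi3' : i ≠ 3 := by
    rintro rfl
    rw [hi] at hcm
    have h1 := Nat.eq_of_mul_eq_mul_left (pow_pos hp.out.pos 3) (hcm.trans (mul_one _).symm)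
    rw [Subgroup.card_eq_one] at h1
    exact hB20 h1
  rcases (show i = 1 ∨ i = 2 by omega) with rfl | rfl
  · rw [hi, pow_one, pow_succ' p 2] at hcm
    exact core h hinv hy hv hw hvw hne hyv hyw hnc hS P hxR hPc hPp hRc hQR hBP hB2E (by rw [hi, pow_one])
      (Nat.eq_of_mul_eq_mul_left hp.out.pos hcm) hdisj hBi hB2i
  · rw [hi, pow_succ p 2] at hcm
    exact core h hinv hy hv hw hvw hne hyv hyw hnc hS P hxR hPc hPp hRc hQR hB2E hBP
      (Nat.eq_of_mul_eq_mul_left (pow_pos hp.out.pos 2) hcm) hi (by rw [inf_comm]; exact hdisj) hB2i hBi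

end Cfsg.Agent.H800.MT
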