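import Cfsg.Agent.H800.MT.Main
import Cfsg.Agent.H794.MonThirteen
import Cfsg.Agent.H573.Spor.MThirteen

/-!
# The Monster at `p = 13`: the data

An element `y` of order 13 commuting with a four-group `⟨t, f₁⟩`, `t` in the class `2A`; `x` of order 13 commuting with
`z` and helper794's hypothesis.
-/

set_option autoImplicit false
set_option linter.constructorNameAsVariable false
set_option maxRecDepth 100000

open Subgroup

namespace Cfsg.Agent.H800.MT.Model

section four

open Cfsg Cfsg.Lie Cfsg.Agent.Bimonster Cfsg.Agent.Bimonster.Tits Cfsg.Agent.BabyU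
open Cfsg.Agent.MonsterX.KSide Cfsg.Agent.MonsterX.KLift Cfsg.Agent.MonsterX.KModel
open Cfsg.Agent.MonsterX.Model Cfsg.Agent.MonsterX.MainPack Cfsg.Agent.MonsterX.MainSimple
open Cfsg.Agent.MonsterX.MainBasic Cfsg.Agent.MonsterU.Assembly Cfsg.Agent.MonsterN.Lit Cfsg.Agent.MonsterN
open Cfsg.Agent.MonsterN.LitInst Cfsg.Agent.MonsterU.Lam2 Cfsg.Agent.MonsterU.TwoCls
open Cfsg.Agent.BabyComp Cfsg.Agent.R01.Lifts Cfsg.Agent.BpSpor.MBigPure

/-- an element of order 13 modulo the kernel -/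
theorem thirteen_dvd {X B : Type*} [Group X] [Finite X] [Group B] [Finite B] {q : X →* B} {z : X} (hq : Ext q z) {y : X}
    (h : 13 ∣ Nat.card ↥(centralizer ({q y} : Set B))) : 13 ∣ Nat.card ↥(centralizer ({y} : Set X)) := by
  have : Fact (Nat.Prime 13) := ⟨by norm_num⟩
  obtain ⟨g, hg⟩ := exists_prime_orderOf_dvd_card' 13 h
  obtain ⟨k, hk⟩ := hq.surj (g : B)
  have hgc : (g : B) * q y = q y * g := mem_centralizer_singleton_iff.1 g.2
  have hgo : orderOf (g : B) = 13 := by rw [Subgroup.orderOf_coe, hg]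
  have h1 : q (k * y * k⁻¹ * y⁻¹) = 1 := by
    rw [map_mul, map_mul, map_mul, map_inv, map_inv, hk, hgc]
    group
  have h2 : k * k * y = y * (k * k) := by
    have hkz := hq.comm k
    rcases (hq.ker _).1 h1 with h3 | h3
    · have h4 : k * y = y * k := by
        calc k * y = (k * y * k⁻¹ * y⁻¹) * (y * k) := by group
          _ = y * k := by rw [h3, one_mul]
      rw [mul_assoc, h4, ← mul_assoc, h4, mul_assoc]
    · have h4 : k * y = z * (y * k) := by
        calc k * y = (k * y * k⁻¹ * y⁻¹) * (y * k) := by group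
          _ = z * (y * k) := by rw [h3]
      calc k * k * y = k * (k * y) := by group
        _ = k * z * (y * k) := by rw [h4]; group
        _ = z * (k * y) * k := by rw [hkz]; group
        _ = (z * z) * y * k * k := by rw [h4]; group
        _ = y * (k * k) := by rw [hq.zz]; group
  have hm : k * k ∈ centralizer ({y} : Set X) := mem_centralizer_singleton_iff.2 h2
  have h3 : orderOf (q (k * k)) = 13 := by
    have h4 : q (k * k) = (g : B) ^ 2 := by rw [map_mul, hk, pow_two]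
    rw [h4, orderOf_pow, hgo]
    norm_num
  have h4 : 13 ∣ orderOf (k * k) := by
    rw [← h3]
    exact orderOf_map_dvd q _
  rw [← Subgroup.orderOf_mk _ hm] at h4
  exact h4.trans (orderOf_dvd_natCard _)

/-- the order of the centralizer does not depend on the choice in the conjugacy class -/
theorem dvd_of_isConj {X : Type*} [Group X] {a b : X} (h : IsConj a b) {n : ℕ}
    (hn : n ∣ Nat.card ↥(centralizer ({b} : Set X))) : n ∣ Nat.card ↥(centralizer ({a} : Set X)) := by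
  obtain ⟨c, hc⟩ := isConj_iff.1 h
  rw [BpSpor.card_cent_of_conj hc] at hn
  exact hn

variable {V P W : Type} [AddCommGroup V] [Module ℚ V] [Group P] [AddCommGroup W] [Module ℚ W]
  {D : MData V} {M : KS ↥D.G V P W} {x₀ : P} {θ : leechLattice → P} {K₀ : Type} [Group K₀]

/-- **`13` divides the order of the centralizer of `f₁` in `C(t)`.** -/
theorem thirteen_f (A : All D K₀) (H : Link D M x₀) (L : Lift M θ) {y : ℕ → D.G} (hP : PRel y) (hne : y 0 ≠ y 1)
    (hy : ∃ g : D.G, g * tG A.hG A.hR * g⁻¹ = y 10) {f₁ f₂ f₃ f₄ : BB M x₀}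
    (Fc : FusionType.Facts (tb M x₀) f₁ f₂ f₃ f₄)
    (hcz : ∀ h, IsConj (tb M x₀ * (f₁ * f₂)) (⟨M.z, h⟩ : BB M x₀))
    (hcd : IsConj M.z ((f₁ * f₂ * f₃ : BB M x₀) : D.G)) :
    13 ∣ Nat.card ↥(centralizer ({f₁} : Set ↥(BB M x₀))) := by
  have hfin : Finite D.G := G_finite A.hO
  have hfB : Finite Spor.BabyMonster := Nat.finite_of_card_ne_zero (by rw [BM.KHAll.card_B]; norm_num)
  obtain ⟨⟨h1, h2, h3⟩, h43⟩ := ModelB.fieldsKS A H L hP hne hy Cfsg.Agent.S1704.result H.x₀_mem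
  have hzm : M.z ∈ BB M x₀ := mem_centralizer_singleton_iff.2 (by
    show M.ι M.zc * M.ι x₀ = M.ι x₀ * M.ι M.zc
    rw [← map_mul, ← map_mul, M.zc_comm])
  have hE : Emb (BB M x₀).subtype M.z (tb M x₀) f₁ f₂ f₃ :=
    ⟨Subtype.val_injective, nineteen H A, ((BB M x₀).subtype.map_isConj (hcz hzm)).symm, hcd⟩
  obtain ⟨q, hq⟩ := NodesLit.exists_ext h1 h3 Fc.cen Fc.t_ne
  obtain ⟨yB, hyB, h10, hπ, -⟩ := LiftB.exists_pre_of_perfect fi_facts hq h2
  have hy4 : q (yB 4) = PresentedGroup.of Spor.BabyMonster.Gen.t1 := hπ .t1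
  have hcard : Nat.card (centralizer ({PresentedGroup.of Spor.BabyMonster.Gen.t1} : Set Spor.BabyMonster)) =
    306129918735099415756800 := BM.KHAll.card_cent .t1
  have hne1 : q (yB 4) ≠ 1 := by
    intro e
    have h3 : centralizer ({1} : Set Spor.BabyMonster) = ⊤ := by
      rw [eq_top_iff]
      intro x _
      rw [mem_centralizer_singleton_iff, mul_one, one_mul]
    rw [← hy4, e, h3, card_top, BM.KHAll.card_B] at hcard
    norm_num at hcard
  have hf : IsConj f₁ (yB 4) := by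
    refine conj_of_nineteen Fc hE (hyB.sq 4 (by norm_num) (by norm_num)) ?_ ?_ ?_
    · intro e; exact hne1 (by rw [e, map_one])
    · intro e; exact hne1 (by rw [e, hq.mapz])
    · refine nineteen_dvd hq ?_
      rw [hy4, hcard]
      norm_num
  refine dvd_of_isConj hf (thirteen_dvd hq ?_)
  rw [hy4, hcard]
  norm_num

/-- **the four-group** -/
theorem exists_four (A : All D K₀) (H : Link D M x₀) (L : Lift M θ) {τ : D.G} {y' : P}
    (T : Cfsg.Agent.MonsterU.InvTwo.TauHyp M θ ⊤ τ y') {y : ℕ → D.G} (hP : PRel y) (hne : y 0 ≠ y 1)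
    (hy : ∃ g : D.G, g * tG A.hG A.hR * g⁻¹ = y 10) :
    ∃ x₁ w : D.G, orderOf x₁ = 13 ∧ orderOf w = 2 ∧ M.ι x₀ * w = w * M.ι x₀ ∧ M.ι x₀ ≠ w ∧ orderOf (M.ι x₀) = 2 ∧
      x₁ * M.ι x₀ = M.ι x₀ * x₁ ∧ x₁ * w = w * x₁ := by
  have hfin : Finite D.G := G_finite A.hO
  have : Fact (Nat.Prime 13) := ⟨by norm_num⟩
  have : Fact (Nat.Prime 2) := ⟨Nat.prime_two⟩
  obtain ⟨f₁, f₂, f₃, f₄, Fc, hcz, hcd, -⟩ := FusInst.exists_facts A H L T H.x₀_mem
  obtain ⟨x₁, hx₁⟩ := exists_prime_orderOf_dvd_card' 13 (thirteen_f A H L hP hne hy Fc hcz hcd)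
  have hf1 : f₁ ≠ 1 := by
    intro h1
    have h2 := Fc.a_t
    rw [h1, mul_one, isConj_one_right] at h2
    exact Fc.t_ne h2
  have hft : f₁ ≠ tb M x₀ := by
    intro h1
    have h2 := Fc.a_t
    rw [h1, Fc.t_sq, isConj_one_left] at h2
    exact Fc.t_ne h2
  have hval : ∀ b : BB M x₀, (b : D.G) * M.ι x₀ = M.ι x₀ * b := fun b => congrArg Subtype.val (Fc.cen b)
  refine ⟨((x₁ : BB M x₀) : D.G), (f₁ : D.G), by rw [Subgroup.orderOf_coe, Subgroup.orderOf_coe, hx₁], ?_,
    (hval f₁).symm, ?_, ?_, hval _, congrArg Subtype.val (mem_centralizer_singleton_iff.1 x₁.2)⟩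
  · rw [Subgroup.orderOf_coe]
    exact orderOf_eq_prime (by rw [pow_two, Fc.sq₁]) hf1
  · intro h
    exact hft (Subtype.ext h.symm)
  · refine orderOf_eq_prime ?_ ?_
    · rw [pow_two]
      exact congrArg Subtype.val Fc.t_sq
    · intro h
      exact Fc.t_ne (Subtype.ext h)

end four

end Cfsg.Agent.H800.MT.Model
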