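import Cfsg.Agent.H795.AbSyl
import Cfsg.Agent.S0023
import Cfsg.Agent.S0058

/-!
# Elementary abelian `p`-groups of order `p³` acting on `p'`-groups

If `p²` divides the order of no centralizer of an involution, then an elementary abelian `p`-group of order `p³`
normalizes no `p'`-group of even order.
-/

set_option autoImplicit false

universe u

namespace Cfsg.Agent.H800.MT

open Subgroup Cfsg Cfsg.Agent.H795

variable {G : Type u} [Group G] [Finite G] {p : ℕ} [hp : Fact p.Prime]

omit [Finite G] in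
/-- a nontrivial 2-subgroup contains an involution -/
theorem exists_invol {T : Subgroup G} (hT : IsPGroup 2 T) (h : T ≠ ⊥) : ∃ t ∈ T, orderOf t = 2 := by
  obtain ⟨t, ht1⟩ := (Subgroup.ne_bot_iff_exists_ne_one.1 h)
  obtain ⟨k, hk⟩ := IsPGroup.iff_orderOf.1 hT t
  have hk0 : k ≠ 0 := by
    rintro rfl
    exact ht1 (orderOf_eq_one_iff.1 (by rw [hk, pow_zero]))
  obtain ⟨j, rfl⟩ := Nat.exists_eq_succ_of_ne_zero hk0
  refine ⟨((t ^ 2 ^ j : T) : G), (t ^ 2 ^ j : T).2, ?_⟩
  rw [Subgroup.orderOf_coe, orderOf_pow' _ (pow_ne_zero _ two_ne_zero), hk,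
    Nat.gcd_eq_right (pow_dvd_pow 2 (Nat.le_succ j)), pow_succ, Nat.mul_div_cancel_left _ (pow_pos two_pos _)]

/-- two commuting elements of order `p`, independent: `p²` divides the order of a subgroup containing them -/
theorem sq_dvd_of_pair {C : Subgroup G} {a b : G} (ha : a ∈ C) (hb : b ∈ C) (hap : orderOf a = p) (hbp : b ^ p = 1)
    (hab : a * b = b * a) (hn : b ∉ zpowers a) : p ^ 2 ∣ Nat.card C := by
  have h1 : IsPGroup p (zpowers a ⊔ zpowers b : Subgroup G) := by
    have hpa : IsPGroup p (zpowers a) := IsPGroup.of_card (n := 1) (by rw [Nat.card_zpowers, hap, pow_one])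
    have hpb : IsPGroup p (zpowers b) := by
      rintro ⟨_, m, rfl⟩
      refine ⟨1, Subtype.ext ?_⟩
      show (b ^ m) ^ p ^ 1 = 1
      rw [pow_one, ← zpow_natCast, ← zpow_mul, mul_comm, zpow_mul, zpow_natCast, hbp, one_zpow]
    refine IsPGroup.to_sup_of_normal_right' hpa hpb ?_
    rw [zpowers_le, mem_set_normalizer_iff]
    intro t
    constructor
    · rintro ⟨k, rfl⟩
      refine ⟨k, ?_⟩
      show b ^ k = a * b ^ k * a⁻¹
      rw [((show Commute a b from hab).zpow_right k).eq, mul_inv_cancel_right]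
    · rintro ⟨k, hk⟩
      refine ⟨k, ?_⟩
      show b ^ k = t
      have hk' : b ^ k = a * t * a⁻¹ := hk
      have e : t = a⁻¹ * b ^ k * a := by rw [hk']; group
      rw [e, mul_assoc, ← ((show Commute a b from hab).zpow_right k).eq, inv_mul_cancel_left]
  obtain ⟨n, hn'⟩ := IsPGroup.iff_card.1 h1
  have hle : (zpowers a ⊔ zpowers b : Subgroup G) ≤ C := sup_le (zpowers_le.2 ha) (zpowers_le.2 hb)
  have h2 : 2 ≤ n := by
    by_contra hlt
    have h3 : Nat.card (zpowers a ⊔ zpowers b : Subgroup G) ≤ Nat.card (zpowers a) := by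
      rw [hn', Nat.card_zpowers, hap]
      calc p ^ n ≤ p ^ 1 := Nat.pow_le_pow_right hp.out.pos (by omega)
        _ = p := pow_one p
    have h4 : zpowers a = zpowers a ⊔ zpowers b := Subgroup.eq_of_le_of_card_ge le_sup_left h3
    apply hn
    rw [h4]
    exact (le_sup_right : zpowers b ≤ zpowers a ⊔ zpowers b) (mem_zpowers b)
  exact ((pow_dvd_pow p h2).trans hn'.symm.dvd).trans (Subgroup.card_dvd_of_le hle)

/-- **A group of order `p³`.** -/
theorem odd_of_rank_three (hp2 : p ≠ 2) (hinv : ∀ t : G, orderOf t = 2 → ¬ p ^ 2 ∣ Nat.card (centralizer ({t} : Set G)))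
    {S : Subgroup G} (hS : IsMulCommutative S) (hSp : ∀ s ∈ S, s ^ p = 1) (hc : Nat.card S = p ^ 3) {D : Subgroup G}
    (hSD : S ≤ normalizer (D : Set G)) (hD : ¬ p ∣ Nat.card D) : Odd (Nat.card D) := by
  classical
  by_contra hodd
  have h2 : 2 ∣ Nat.card D := (Nat.not_odd_iff_even.1 hodd).two_dvd
  have hf2 : Fact (Nat.Prime 2) := ⟨Nat.prime_two⟩
  have hcop : (Nat.card S).Coprime (Nat.card D) := by
    rw [hc]
    exact Nat.Coprime.pow_left 3 ((Nat.Prime.coprime_iff_not_dvd hp.out).2 hD)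
  have hsol : Group.IsSolvable S := Group.isSolvable_of_comm fun a b => Subtype.ext (comm_of hS a.2 b.2)
  obtain ⟨P, hP⟩ := S0023.result S D hSD hcop (Or.inl hsol) 2
  set T : Subgroup G := (P : Subgroup D).map D.subtype with hT
  have hTp : IsPGroup 2 T := P.2.map _
  have hT1 : T ≠ ⊥ := by
    intro h
    have h1 : (P : Subgroup D) = ⊥ := by
      rw [← Subgroup.map_eq_bot_iff_of_injective _ D.subtype_injective]
      exact h
    have h3 := P.dvd_card_of_dvd_card h2
    rw [h1, Subgroup.card_bot] at h3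
    norm_num at h3
  have hncyc : ∀ A : Subgroup G, A ≤ S → p ^ 2 ∣ Nat.card A → ¬ IsCyclic A := by
    intro A hA hd hcy
    obtain ⟨g, hg⟩ := hcy.exists_generator
    have h3 : orderOf g = Nat.card A := orderOf_eq_card_of_forall_mem_zpowers hg
    have h4 : orderOf g ∣ p := orderOf_dvd_of_pow_eq_one (Subtype.ext (hSp g (hA g.2)))
    rw [h3] at h4
    have h5 := Nat.le_of_dvd hp.out.pos (hd.trans h4)
    have h6 := hp.out.one_lt
    nlinarith
  -- a noncyclic subgroup of `S` acting on a nontrivial 2-subgroup: an element with fixed points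
  have key : ∀ A T : Subgroup G, A ≤ S → p ^ 2 ∣ Nat.card A → IsPGroup 2 T → T ≠ ⊥ → A ≤ normalizer (T : Set G) →
      ∃ a ∈ A, a ≠ 1 ∧ T ⊓ centralizer ({a} : Set G) ≠ ⊥ := by
    intro A T hA hd hTp hT1 hAT
    have hAc : IsMulCommutative A := isMulCommutative_of fun a ha b hb => comm_of hS (hA ha) (hA hb)
    have hcop : (Nat.card A).Coprime (Nat.card T) := by
      obtain ⟨k, hk⟩ := IsPGroup.iff_card.1 hTp
      rw [hk]
      have h4 : Nat.card A ∣ p ^ 3 := hc ▸ Subgroup.card_dvd_of_le hA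
      exact Nat.Coprime.coprime_dvd_left h4 (Nat.Coprime.pow 3 k ((Nat.coprime_primes hp.out Nat.prime_two).2 hp2))
    have h3 := S0058.result A T (hncyc A hA hd) hAT hcop
    by_contra hcon
    push Not at hcon
    apply hT1
    rw [← h3, iSup₂_eq_bot]
    rintro a ⟨ha, ha1⟩
    exact hcon a ha ha1
  obtain ⟨a, haS, ha1, haT⟩ := key S T le_rfl (hc ▸ pow_dvd_pow p (by norm_num)) hTp hT1 hP
  have hao : orderOf a = p := orderOf_eq_prime (hSp a haS) ha1
  -- a complement of `⟨a⟩`
  obtain ⟨A, hAS, hAa, hAc⟩ : ∃ A : Subgroup G, A ≤ S ∧ zpowers a ⊓ A = ⊥ ∧ p ^ 2 ∣ Nat.card A := by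
    let _ : CommGroup S := { (inferInstance : Group S) with mul_comm := hS.is_comm.comm }
    obtain ⟨W, hW1, hW2⟩ := exists_compl_elem (p := p) (V := S) (fun v => Subtype.ext (hSp v v.2))
      (zpowers (⟨a, haS⟩ : S))
    refine ⟨W.map S.subtype, map_subtype_le W, ?_, ?_⟩
    · rw [eq_bot_iff]
      rintro x ⟨⟨i, hi⟩, w, hw, hwx⟩
      have h1 : w ∈ zpowers (⟨a, haS⟩ : S) ⊓ W := by
        refine ⟨⟨i, Subtype.ext ?_⟩, hw⟩
        show a ^ i = (w : G)
        exact hi.trans hwx.symm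
      rw [hW1, mem_bot] at h1
      rw [mem_bot, ← hwx, h1, map_one]
    · rw [Subgroup.card_map_of_injective S.subtype_injective]
      have h1 : Nat.card (zpowers (⟨a, haS⟩ : S)) = p := by
        rw [Nat.card_zpowers, Subgroup.orderOf_mk, hao]
      have h3 : Nat.card S = Nat.card (zpowers (⟨a, haS⟩ : S)) * Nat.card W :=
        (Subgroup.isComplement'_of_disjoint_and_mul_eq_univ (disjoint_iff.2 hW1) (by
          rw [← Subgroup.normal_mul, hW2]; rfl)).card_mul_card.symm
      rw [hc, h1, pow_succ'] at h3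
      exact (Nat.eq_of_mul_eq_mul_left hp.out.pos h3).dvd
  have hAnorm : A ≤ normalizer ((T ⊓ centralizer ({a} : Set G) : Subgroup G) : Set G) := by
    intro b hb
    rw [mem_set_normalizer_iff]
    have hbT := mem_set_normalizer_iff.1 (hP (hAS hb))
    have hba : b * a = a * b := comm_of hS (hAS hb) haS
    have hbi : b⁻¹ * a = a * b⁻¹ := comm_of hS (inv_mem (hAS hb)) haS
    intro t
    constructor
    · rintro ⟨h1, h3⟩
      refine ⟨(hbT t).1 h1, mem_centralizer_singleton_iff.2 ?_⟩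
      have h4 := mem_centralizer_singleton_iff.1 h3
      calc b * t * b⁻¹ * a = b * (t * (b⁻¹ * a)) := by group
        _ = b * (t * a) * b⁻¹ := by rw [hbi]; group
        _ = (b * a) * t * b⁻¹ := by rw [h4]; group
        _ = a * (b * t * b⁻¹) := by rw [hba]; group
    · rintro ⟨h1, h3⟩
      refine ⟨(hbT t).2 h1, mem_centralizer_singleton_iff.2 ?_⟩
      have h4 := mem_centralizer_singleton_iff.1 h3
      calc t * a = b⁻¹ * (b * t * b⁻¹) * (b * a) := by group
        _ = b⁻¹ * ((b * t * b⁻¹) * a) * b := by rw [hba]; group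
        _ = (b⁻¹ * a) * (b * t * b⁻¹) * b := by rw [h4]; group
        _ = a * t := by rw [hbi]; group
  obtain ⟨b, hbA, hb1, hbT⟩ := key A _ hAS hAc (hTp.to_le inf_le_left) haT hAnorm
  obtain ⟨t, ⟨⟨-, hta⟩, htb⟩, ht2⟩ := exists_invol ((hTp.to_le inf_le_left).to_le inf_le_left) hbT
  refine hinv t ht2 (sq_dvd_of_pair (a := a) (b := b) (mem_centralizer_singleton_iff.2
    (mem_centralizer_singleton_iff.1 hta).symm) (mem_centralizer_singleton_iff.2
    (mem_centralizer_singleton_iff.1 htb).symm) hao (hSp b (hAS hbA)) (comm_of hS haS (hAS hbA)) fun hba => hb1 ?_)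
  have : b ∈ zpowers a ⊓ A := ⟨hba, hbA⟩
  rwa [hAa, mem_bot] at this

end Cfsg.Agent.H800.MT
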