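import Cfsg.Agent.H800.MT.Rank
import Cfsg.Agent.Lib.SylowNormalInf

/-!
# A central element of order `p` and a four-group: no splitting of the Sylow subgroup of order `p³`
-/

set_option autoImplicit false

universe u

namespace Cfsg.Agent.H800.MT

open Subgroup Cfsg Cfsg.Agent.H795

variable {G : Type u} [Group G] [Finite G] {p : ℕ} [hp : Fact p.Prime]

/-- a normal subgroup meeting a Sylow `p`-subgroup trivially -/
theorem not_dvd_of_inf (S : Sylow p G) (M : Subgroup G) [hM : M.Normal] (h : M ⊓ (S : Subgroup G) = ⊥) :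
    ¬ p ∣ Nat.card M := by
  intro hd
  obtain ⟨x, hx⟩ := exists_prime_orderOf_dvd_card' p hd
  have hxo : orderOf (x : G) = p := by rw [Subgroup.orderOf_coe, hx]
  obtain ⟨T, hT⟩ := (IsPGroup.of_card (p := p) (n := 1) (G := zpowers (x : G))
    (by rw [Nat.card_zpowers, hxo, pow_one])).exists_le_sylow
  obtain ⟨g, hg⟩ := MulAction.exists_smul_eq G T S
  have h1 : g * (x : G) * g⁻¹ ∈ (S : Subgroup G) := by
    rw [← hg]
    exact Subgroup.smul_mem_pointwise_smul _ (MulAut.conj g) (T : Subgroup G) (hT (mem_zpowers _))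
  have h2 : g * (x : G) * g⁻¹ ∈ M ⊓ (S : Subgroup G) := ⟨hM.conj_mem _ x.2 g, h1⟩
  rw [h, mem_bot] at h2
  have h3 : (x : G) = 1 := by
    rw [mul_inv_eq_one] at h2
    exact mul_left_cancel (h2.trans (mul_one g).symm)
  rw [h3, orderOf_one] at hxo
  exact hp.out.one_lt.ne hxo

omit [Finite G] hp in
/-- a central element of order `p` lies in every Sylow subgroup -/
theorem mem_of_central (S : Sylow p G) {x : G} (hx : x ^ p = 1) (hxc : ∀ g : G, g * x = x * g) : x ∈ (S : Subgroup G) := by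
  have h1 : IsPGroup p (zpowers x) := by
    rintro ⟨_, m, rfl⟩
    refine ⟨1, Subtype.ext ?_⟩
    show (x ^ m) ^ p ^ 1 = 1
    rw [pow_one, ← zpow_natCast, ← zpow_mul, mul_comm, zpow_mul, zpow_natCast, hx, one_zpow]
  have h2 : zpowers x ≤ normalizer ((S : Subgroup G) : Set G) := by
    rw [zpowers_le, mem_set_normalizer_iff]
    intro y
    rw [← hxc, mul_inv_cancel_right]
  have h3 := h1.inf_normalizer_sylow S
  have h4 : x ∈ zpowers x ⊓ normalizer (S : Set G) := ⟨mem_zpowers x, h2 (mem_zpowers x)⟩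
  rw [h3] at h4
  exact h4.2

omit [Finite G] in
/-- an involution acting on a group of prime order without centralizing it inverts it -/
theorem inverts {l v : G} (hl : orderOf l = p) (hv : v * v = 1) (hn : v * l * v⁻¹ ∈ zpowers l) (hne : v * l * v⁻¹ ≠ l) :
    v * l * v⁻¹ = l⁻¹ := by
  obtain ⟨k, hk⟩ := mem_zpowers_iff.1 hn
  have h1 : v * (v * l * v⁻¹) * v⁻¹ = l ^ (k * k) := by
    rw [← hk, ← conj_zpow, ← hk, ← zpow_mul]
  have h2 : v * (v * l * v⁻¹) * v⁻¹ = l := by
    calc v * (v * l * v⁻¹) * v⁻¹ = (v * v) * l * (v * v)⁻¹ := by group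
      _ = l := by rw [hv]; group
  rw [h2] at h1
  have h3 : (p : ℤ) ∣ k * k - 1 := by
    rw [← hl]
    rw [orderOf_dvd_iff_zpow_eq_one, zpow_sub, ← h1, zpow_one, mul_inv_cancel]
  have h4 : (p : ℤ) ∣ (k - 1) * (k + 1) := by
    have e : (k - 1) * (k + 1) = k * k - 1 := by ring
    rwa [e]
  rcases (Nat.prime_iff_prime_int.1 hp.out).dvd_or_dvd h4 with h5 | h5
  · exfalso
    apply hne
    rw [← hk]
    rw [← hl, orderOf_dvd_iff_zpow_eq_one, zpow_sub, zpow_one, mul_inv_eq_one] at h5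
    exact h5
  · rw [← hk]
    rw [← hl, orderOf_dvd_iff_zpow_eq_one, zpow_add, zpow_one] at h5
    exact eq_inv_of_mul_eq_one_left h5

theorem false_of_split (hp2 : p ≠ 2)
    (hinv : ∀ t : G, orderOf t = 2 → ¬ p ^ 2 ∣ Nat.card (centralizer ({t} : Set G)))
    (S : Sylow p G) (hS : IsMulCommutative (S : Subgroup G)) (hSp : ∀ s ∈ (S : Subgroup G), s ^ p = 1)
    (hc : Nat.card (S : Subgroup G) = p ^ 3) (M N : Subgroup G) [hM : M.Normal] [hN : N.Normal]
    (hL : Nat.card (M ⊓ (S : Subgroup G) : Subgroup G) = p) (hP : p ^ 2 ∣ Nat.card (N ⊓ (S : Subgroup G) : Subgroup G))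
    (hd : M ⊓ (S : Subgroup G) ⊓ (N ⊓ (S : Subgroup G)) = ⊥) {x v w : G} (hx : orderOf x = p)
    (hxc : ∀ g : G, g * x = x * g) (hxM : x ∉ M) (hv : orderOf v = 2) (hw : orderOf w = 2) (hvw : v * w = w * v)
    (hne : v ≠ w) : False := by
  have hf2 : Fact (Nat.Prime 2) := ⟨Nat.prime_two⟩
  have hxp : x ^ p = 1 := by rw [← hx, pow_orderOf_eq_one]
  have hxS : x ∈ (S : Subgroup G) := mem_of_central S hxp hxc
  -- `D = M ∩ N` has odd order
  have hDn : (M ⊓ N).Normal := inferInstance
  have hDp : ¬ p ∣ Nat.card (M ⊓ N : Subgroup G) := by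
    refine not_dvd_of_inf S (M ⊓ N) ?_
    rw [← hd, eq_comm]
    refine le_antisymm (le_inf (le_inf (inf_le_left.trans inf_le_left) (inf_le_right.trans inf_le_left))
      (inf_le_left.trans inf_le_right)) (le_inf (le_inf (inf_le_left.trans inf_le_left) inf_le_right)
      (le_inf (inf_le_left.trans inf_le_right) inf_le_right))
  have hall : ∀ K : Subgroup G, K.Normal → ∀ A : Subgroup G, A ≤ normalizer (K : Set G) := fun K hK A => by
    have : normalizer (K : Set G) = ⊤ := normalizer_eq_top_iff.2 hK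
    rw [this]; exact le_top
  have hDodd : Odd (Nat.card (M ⊓ N : Subgroup G)) := odd_of_rank_three hp2 hinv hS hSp hc (hall _ hDn _) hDp
  -- `M` has odd order
  have hModd : Odd (Nat.card M) := by
    by_contra hodd
    have h2 : 2 ∣ Nat.card M := (Nat.not_odd_iff_even.1 hodd).two_dvd
    obtain ⟨T0⟩ : Nonempty (Sylow 2 M) := inferInstance
    set T : Subgroup G := (T0 : Subgroup M).map M.subtype with hT
    have hTM : T ≤ M := map_subtype_le _
    have hTp : IsPGroup 2 T := T0.2.map _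
    have hT2 : 2 ∣ Nat.card T := by
      rw [hT, Subgroup.card_map_of_injective M.subtype_injective]
      exact T0.dvd_card_of_dvd_card h2
    set P : Subgroup G := N ⊓ (S : Subgroup G) with hPdef
    have hPS : P ≤ (S : Subgroup G) := inf_le_right
    have hPp : IsPGroup p P := S.2.to_le hPS
    have hcomm : ∀ t ∈ M, ∀ y ∈ P, y * t * y⁻¹ * t⁻¹ ∈ M ⊓ N := by
      intro t ht y hy
      have hyN : y ∈ N := hy.1
      refine ⟨M.mul_mem (hM.conj_mem _ ht y) (M.inv_mem ht), ?_⟩
      have e : y * t * y⁻¹ * t⁻¹ = y * (t * y⁻¹ * t⁻¹) := by group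
      rw [e]
      exact N.mul_mem hyN (hN.conj_mem _ (N.inv_mem hyN) t)
    have hKM : M ⊓ N ⊔ T ≤ M := sup_le inf_le_left hTM
    have hPK : P ≤ normalizer ((M ⊓ N ⊔ T : Subgroup G) : Set G) := by
      have h3 : ∀ y ∈ P, ∀ k ∈ M ⊓ N ⊔ T, y * k * y⁻¹ ∈ M ⊓ N ⊔ T := by
        intro y hy k hk
        have e : y * k * y⁻¹ = (y * k * y⁻¹ * k⁻¹) * k := by group
        rw [e]
        exact mul_mem (mem_sup_left (hcomm k (hKM hk) y hy)) hk
      intro y hy
      rw [mem_set_normalizer_iff]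
      intro k
      refine ⟨h3 y hy k, fun hk => ?_⟩
      have h4 := h3 y⁻¹ (inv_mem hy) _ hk
      rwa [show y⁻¹ * (y * k * y⁻¹) * y⁻¹⁻¹ = k by group] at h4
    have hKp : ¬ p ∣ Nat.card (M ⊓ N ⊔ T : Subgroup G) := by
      intro h3
      have h4 : Nat.card (M ⊓ N ⊔ T : Subgroup G) ∣ Nat.card (M ⊓ N : Subgroup G) * Nat.card T := by
        rw [← Cfsg.Agent.Lib.SylowNormalInf.card_mul_relIndex (M ⊓ N) (M ⊓ N ⊔ T) le_sup_left,
          sup_comm (M ⊓ N) T, Subgroup.relIndex_sup_right]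
        exact Nat.mul_dvd_mul_left _ (Subgroup.relIndex_dvd_card _ _)
      rcases hp.out.dvd_mul.1 (h3.trans h4) with h5 | h5
      · exact hDp h5
      · obtain ⟨k, hk⟩ := IsPGroup.iff_card.1 hTp
        rw [hk] at h5
        exact hp2 ((Nat.prime_dvd_prime_iff_eq hp.out Nat.prime_two).1 (hp.out.dvd_of_dvd_pow h5))
    have hcop : (Nat.card P).Coprime (Nat.card (M ⊓ N ⊔ T : Subgroup G)) := by
      obtain ⟨k, hk⟩ := IsPGroup.iff_card.1 hPp
      rw [hk]
      exact Nat.Coprime.pow_left k ((Nat.Prime.coprime_iff_not_dvd hp.out).2 hKp)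
    have hsol : Group.IsSolvable P := Group.isSolvable_of_comm fun a b => Subtype.ext (comm_of hS (hPS a.2) (hPS b.2))
    obtain ⟨Q0, hQ0⟩ := S0023.result P (M ⊓ N ⊔ T) hPK hcop (Or.inl hsol) 2
    set Q : Subgroup G := (Q0 : Subgroup (M ⊓ N ⊔ T : Subgroup G)).map (M ⊓ N ⊔ T).subtype with hQ
    have hQp : IsPGroup 2 Q := Q0.2.map _
    have hQK : Q ≤ M ⊓ N ⊔ T := map_subtype_le _
    have hQ1 : Q ≠ ⊥ := by
      intro h
      have h3 : (Q0 : Subgroup (M ⊓ N ⊔ T : Subgroup G)) = ⊥ := by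
        rw [← Subgroup.map_eq_bot_iff_of_injective _ (M ⊓ N ⊔ T).subtype_injective]
        exact h
      have h4 := Q0.dvd_card_of_dvd_card (hT2.trans (Subgroup.card_dvd_of_le (le_sup_right : T ≤ M ⊓ N ⊔ T)))
      rw [h3, Subgroup.card_bot] at h4
      norm_num at h4
    obtain ⟨t, htQ, ht2⟩ := exists_invol hQp hQ1
    refine hinv t ht2 (hP.trans (Subgroup.card_dvd_of_le fun y hy => mem_centralizer_singleton_iff.2 ?_))
    have h3 : y * t * y⁻¹ * t⁻¹ ∈ (M ⊓ N) ⊓ Q :=
      ⟨hcomm t (hKM (hQK htQ)) y hy, Q.mul_mem ((mem_set_normalizer_iff.1 (hQ0 hy) t).1 htQ) (Q.inv_mem htQ)⟩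
    have h4 : (M ⊓ N) ⊓ Q = ⊥ := by
      rw [← Subgroup.card_eq_one]
      obtain ⟨k, hk⟩ := IsPGroup.iff_card.1 hQp
      have h6 : Nat.card (M ⊓ N ⊓ Q : Subgroup G) ∣ Nat.card (M ⊓ N : Subgroup G) := Subgroup.card_dvd_of_le inf_le_left
      have h7 : Nat.card (M ⊓ N ⊓ Q : Subgroup G) ∣ 2 ^ k := hk ▸ Subgroup.card_dvd_of_le inf_le_right
      have h8 := Nat.dvd_gcd h6 h7
      have h9 : Nat.gcd (Nat.card (M ⊓ N : Subgroup G)) (2 ^ k) = 1 :=
        Nat.Coprime.pow_right k ((Nat.coprime_two_right).2 hDodd)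
      rw [h9] at h8
      exact Nat.dvd_one.1 h8
    rw [h4, mem_bot] at h3
    have h5 : y * t * y⁻¹ = t := by rwa [mul_inv_eq_one] at h3
    exact mul_inv_eq_iff_eq_mul.1 h5
  -- the four-group acts on `M`
  have hvv : v * v = 1 := by rw [← pow_two, ← hv, pow_orderOf_eq_one]
  have hww : w * w = 1 := by rw [← pow_two, ← hw, pow_orderOf_eq_one]
  have hVp : IsPGroup 2 (closure ({v, w} : Set G)) := by
    have h1 : ∀ g ∈ closure ({v, w} : Set G), ∀ h ∈ closure ({v, w} : Set G), g * h = h * g := by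
      have h3 : closure ({v, w} : Set G) ≤ centralizer ({v, w} : Set G) := by
        rw [closure_le]
        rintro g (rfl | rfl)
        · rw [SetLike.mem_coe, mem_centralizer_iff]
          rintro h (rfl | rfl)
          · rfl
          · exact hvw.symm
        · rw [SetLike.mem_coe, mem_centralizer_iff]
          rintro h (rfl | rfl)
          · exact hvw
          · rfl
      have h4 : closure ({v, w} : Set G) ≤ centralizer (closure ({v, w} : Set G) : Set G) := by
        rw [closure_le]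
        intro g hg
        rw [SetLike.mem_coe, mem_centralizer_iff]
        intro h hh
        exact ((mem_centralizer_iff.1 (h3 hh)) g hg).symm
      intro g hg h hh
      exact ((mem_centralizer_iff.1 (h4 hg)) h hh).symm
    rintro ⟨g, hg⟩
    refine ⟨1, Subtype.ext ?_⟩
    show g ^ 2 ^ 1 = 1
    rw [pow_one, pow_two]
    refine closure_induction (p := fun g _ => g * g = 1) ?_ (one_mul 1) ?_ ?_ hg
    · rintro g (rfl | rfl)
      · exact hvv
      · exact hww
    · intro g h hg hh h3 h4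
      calc g * h * (g * h) = g * (h * g) * h := by group
        _ = (g * g) * (h * h) := by rw [h1 h hh g hg]; group
        _ = 1 := by rw [h3, h4, one_mul]
    · intro g _ h3
      rw [← mul_inv_rev, h3, inv_one]
  have hcopV : (Nat.card (closure ({v, w} : Set G))).Coprime (Nat.card M) := by
    obtain ⟨k, hk⟩ := IsPGroup.iff_card.1 hVp
    rw [hk]
    exact Nat.Coprime.pow_left k ((Nat.coprime_two_left).2 hModd)
  have hsolV : Group.IsSolvable (closure ({v, w} : Set G)) := by
    have := hVp.isNilpotent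
    infer_instance
  obtain ⟨R0, hR0⟩ := S0023.result (closure ({v, w} : Set G)) M (hall M hM _) hcopV (Or.inl hsolV) p
  set R : Subgroup G := (R0 : Subgroup M).map M.subtype with hR
  have hRM : R ≤ M := map_subtype_le _
  -- the order of `R`
  have hRc : Nat.card R = p := by
    rw [hR, Subgroup.card_map_of_injective M.subtype_injective, R0.card_eq_multiplicity]
    have h1 := (Cfsg.Agent.Lib.SylowNormalInf.isPGroup_subgroupOf S M)
    let R1 : Sylow p M := h1.toSylow (Cfsg.Agent.Lib.SylowNormalInf.not_dvd_relIndex S M)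
    have h2 := R1.card_eq_multiplicity
    have h3 : Nat.card ((S : Subgroup G).subgroupOf M) = p := by
      refine Eq.trans ?_ hL
      rw [← Subgroup.card_map_of_injective M.subtype_injective, subgroupOf_map_subtype, inf_comm]
    have h4 : Nat.card (R1 : Subgroup M) = p := h3
    rw [← h2, h4]
  have : IsCyclic R := isCyclic_of_prime_card hRc
  obtain ⟨l, hl⟩ := exists_prime_orderOf_dvd_card' p (hRc ▸ dvd_rfl : p ∣ Nat.card R)
  have hlo : orderOf (l : G) = p := by rw [Subgroup.orderOf_coe, hl]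
  have hRl : R = zpowers (l : G) := by
    refine (Subgroup.eq_of_le_of_card_ge (zpowers_le.2 l.2) ?_).symm
    rw [hRc, Nat.card_zpowers, hlo]
  have hxR : x ∉ R := fun h => hxM (hRM h)
  have hkey : ∀ u ∈ closure ({v, w} : Set G), orderOf u = 2 → u * (l : G) * u⁻¹ = (l : G)⁻¹ := by
    intro u hu hu2
    refine inverts hlo (by rw [← pow_two, ← hu2, pow_orderOf_eq_one]) ?_ ?_
    · rw [← hRl]
      exact (mem_set_normalizer_iff.1 (hR0 hu) _).1 l.2
    · intro h
      refine hinv u hu2 (sq_dvd_of_pair (a := (l : G)) (b := x) (mem_centralizer_singleton_iff.2 ?_)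
        (mem_centralizer_singleton_iff.2 (hxc u).symm) hlo hxp (hxc _) fun h3 => hxR (by rw [hRl]; exact h3))
      exact (mul_inv_eq_iff_eq_mul.1 h).symm
  have hvm : v ∈ closure ({v, w} : Set G) := subset_closure (Or.inl rfl)
  have hwm : w ∈ closure ({v, w} : Set G) := subset_closure (Or.inr rfl)
  have h1 := hkey v hvm hv
  have h2 := hkey w hwm hw
  have hvw2 : orderOf (v * w) = 2 := by
    refine orderOf_eq_prime ?_ ?_
    · rw [pow_two]
      calc v * w * (v * w) = v * (w * v) * w := by group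
        _ = (v * v) * (w * w) := by rw [← hvw]; group
        _ = 1 := by rw [hvv, hww, one_mul]
    · intro h
      apply hne
      calc v = v * (w * w) := by rw [hww, mul_one]
        _ = (v * w) * w := by group
        _ = w := by rw [h, one_mul]
  have h3 := hkey (v * w) (mul_mem hvm hwm) hvw2
  have h4 : v * w * (l : G) * (v * w)⁻¹ = (l : G) := by
    calc v * w * (l : G) * (v * w)⁻¹ = v * (w * (l : G) * w⁻¹) * v⁻¹ := by group
      _ = (v * (l : G) * v⁻¹)⁻¹ := by rw [h2]; group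
      _ = (l : G) := by rw [h1, inv_inv]
  rw [h4] at h3
  have h5 : (l : G) ^ 2 = 1 := by
    rw [pow_two]
    nth_rw 2 [h3]
    exact mul_inv_cancel _
  have h6 := orderOf_dvd_of_pow_eq_one h5
  rw [hlo] at h6
  exact hp2 ((Nat.prime_dvd_prime_iff_eq hp.out Nat.prime_two).1 h6)

end Cfsg.Agent.H800.MT
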